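import Groth.Agent.Lib.AbRigid.Image
import Groth.Agent.Lib.AbRigid.GrpTop
import Groth.Agent.Lib.AbRigid.Maximal
import Groth.Agent.Lib.VarDim.Irred
import Mathlib.AlgebraicGeometry.Morphisms.FinitePresentation
import Mathlib.Topology.Constructible

/-!
# The scheme-theoretic image of a homomorphism of groups over a field
-/

universe u

set_option backward.isDefEq.respectTransparency false
set_option linter.style.haveILetI false

open CategoryTheory Limits AlgebraicGeometry MonoidalCategory CartesianMonoidalCategory MonObj Topology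

namespace Groth.Agent.GrpImage19

/-- A constructible set is, on every nonempty open, open-locally inside it or outside it. -/
theorem exists_open_subset_or_disjoint {α : Type*} [TopologicalSpace α] {s : Set α} (hs : IsConstructible s) :
    ∀ V : Set α, IsOpen V → V.Nonempty → ∃ V' : Set α, IsOpen V' ∧ V'.Nonempty ∧ V' ⊆ V ∧ (V' ⊆ s ∨ V' ⊆ sᶜ) := by
  induction hs using IsConstructible.empty_union_induction with
  | open_retrocompact U hU _ =>
    intro V hV hne
    by_cases h : (V ∩ U).Nonempty
    · exact ⟨V ∩ U, hV.inter hU, h, Set.inter_subset_left, .inl Set.inter_subset_right⟩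
    · exact ⟨V, hV, hne, subset_rfl, .inr fun x hx hxU => h ⟨x, hx, hxU⟩⟩
  | union s _ t _ hs ht =>
    intro V hV hne
    obtain ⟨V₁, h1, h1ne, h1V, h1s⟩ := hs V hV hne
    rcases h1s with h1s | h1s
    · exact ⟨V₁, h1, h1ne, h1V, .inl (h1s.trans Set.subset_union_left)⟩
    obtain ⟨V₂, h2, h2ne, h2V, h2t⟩ := ht V₁ h1 h1ne
    rcases h2t with h2t | h2t
    · exact ⟨V₂, h2, h2ne, h2V.trans h1V, .inl (h2t.trans Set.subset_union_right)⟩
    · refine ⟨V₂, h2, h2ne, h2V.trans h1V, .inr ?_⟩
      rw [Set.compl_union]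
      exact Set.subset_inter (h2V.trans h1s) h2t
  | compl s _ hs =>
    intro V hV hne
    obtain ⟨V', h1, h2, h3, h4⟩ := hs V hV hne
    exact ⟨V', h1, h2, h3, h4.symm.imp id (fun h => by rwa [compl_compl])⟩

/-- The image of a dominant quasi-compact morphism of finite presentation contains a dense open set. -/
theorem dense_interior_range {A B : Scheme.{u}} [QuasiSeparatedSpace B] (g : A ⟶ B) [QuasiCompact g] [LocallyOfFinitePresentation g]
    [IsDominant g] : Dense (interior (Set.range g)) := by
  rw [dense_iff_inter_open]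
  intro V hV hne
  obtain ⟨x, hx⟩ := hne
  obtain ⟨W, hW, hxW, hWV⟩ := exists_isAffineOpen_mem_and_subset (X := B) (x := x) (U := ⟨V, hV⟩) hx
  have hR : IsLocallyConstructible (Set.range g) := by
    rw [← Set.image_univ]
    exact g.isLocallyConstructible_image (.univ)
  have hRW : IsConstructible (Set.range g ∩ (W : Set B)) := hR.inter_of_isOpen_isCompact W.isOpen hW.isCompact
  obtain ⟨V', h1, h2, h3, h4⟩ := exists_open_subset_or_disjoint hRW W W.isOpen ⟨x, hxW⟩
  rcases h4 with h4 | h4
  · obtain ⟨y, hy⟩ := h2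
    exact ⟨y, hWV (h3 hy), mem_interior.mpr ⟨V', fun z hz => (h4 hz).1, h1, hy⟩⟩
  · obtain ⟨z, hz, hzR⟩ := g.denseRange.inter_open_nonempty V' h1 h2
    exact absurd ⟨hzR, h3 hz⟩ (h4 hz)

variable {K : Type u} [Field K] {H G Z : Over (Spec (CommRingCat.of K))} [GrpObj H] [GrpObj G]
  (f : H ⟶ G) [IsMonHom f] (i : Z ⟶ G) [IsClosedImmersion i.left] (g : H ⟶ Z) (hgi : g ≫ i = f)
  [IsSchemeTheoreticallyDominant g.left] [QuasiCompact f.left]

include hgi

omit [GrpObj H] [GrpObj G] [IsMonHom f] [IsSchemeTheoreticallyDominant g.left] in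
theorem quasiCompact_of_factor : QuasiCompact g.left := by
  haveI : QuasiCompact (g.left ≫ i.left) := by rw [← Over.comp_left, hgi]; infer_instance
  exact QuasiCompact.of_comp g.left i.left

/-- The image is a subgroup. -/
theorem exists_grpObj : ∃ (_ : GrpObj Z), IsMonHom i ∧ IsMonHom g := by
  haveI : Mono i := (Over.forget _).mono_of_mono_map (f := i) (show Mono i.left from inferInstance)
  haveI hqd : IsSchemeTheoreticallyDominant g.left := inferInstance
  haveI hqc : QuasiCompact g.left := quasiCompact_of_factor f i g hgi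
  have hlift : ∀ {W V : Over (Spec (CommRingCat.of K))} (r : V ⟶ W) (h : W ⟶ G),
      IsSchemeTheoreticallyDominant r.left → (∃ s : V ⟶ Z, s ≫ i = r ≫ h) → ∃ t : W ⟶ Z, t ≫ i = h := by
    intro W V r h hr ⟨s, hs⟩
    have hker : i.left.ker ≤ h.left.ker := by
      calc i.left.ker ≤ (s.left ≫ i.left).ker := Scheme.Hom.le_ker_comp _ _
        _ = (r.left ≫ h.left).ker := by rw [← Over.comp_left, hs, Over.comp_left]
        _ = h.left.ker := by rw [Scheme.Hom.ker_comp, r.left.ker_eq_bot, Scheme.IdealSheafData.map_bot]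
    refine ⟨Over.homMk (IsClosedImmersion.lift i.left h.left hker) ?_, ?_⟩
    · show _ = W.hom
      rw [← Over.w i, IsClosedImmersion.lift_fac_assoc, Over.w]
    · ext1; exact IsClosedImmersion.lift_fac _ _ _
  have hqq : IsSchemeTheoreticallyDominant (g ⊗ₘ g).left := by
    rw [MonoidalCategory.tensorHom_def, Over.comp_left]
    haveI : IsSchemeTheoreticallyDominant ((Over.forget _).map g) := hqd
    haveI : QuasiCompact ((Over.forget _).map g) := hqc
    haveI : Flat ((Over.forget _).map (fst Z H)) := AbRigid.flat_fst_left Z H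
    haveI : Flat ((Over.forget _).map (snd Z Z)) := AbRigid.flat_snd_left Z Z
    haveI : IsSchemeTheoreticallyDominant (g ▷ H).left :=
      IsSchemeTheoreticallyDominant.of_isPullback ((AbRigid.isPullback_whiskerRight g H).map (Over.forget _))
    haveI : IsSchemeTheoreticallyDominant (Z ◁ g).left :=
      IsSchemeTheoreticallyDominant.of_isPullback ((AbRigid.isPullback_whiskerLeft g Z).map (Over.forget _))
    infer_instance
  obtain ⟨m, hm⟩ := hlift (g ⊗ₘ g) ((i ⊗ₘ i) ≫ μ[G]) hqq ⟨μ[H] ≫ g, by
    rw [Category.assoc, hgi, MonoidalCategory.tensorHom_comp_tensorHom_assoc, hgi, IsMonHom.mul_hom]⟩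
  obtain ⟨v, hv⟩ := hlift g (i ≫ ι[G]) hqd ⟨ι[H] ≫ g, by
    rw [Category.assoc, hgi, ← Category.assoc, hgi, GrpObj.inv_hom]⟩
  have he : (η[H] ≫ g) ≫ i = η[G] := by rw [Category.assoc, hgi, IsMonHom.one_hom]
  letI : GrpObj Z := AbRigid.grpObjOfMono i (η[H] ≫ g) he m hm v hv
  haveI hi : IsMonHom i := ⟨he, hm⟩
  haveI hq : IsMonHom g := ⟨rfl, by
    rw [← cancel_mono i, Category.assoc, hgi, Category.assoc, show μ[Z] ≫ i = (i ⊗ₘ i) ≫ μ[G] from hm,
      MonoidalCategory.tensorHom_comp_tensorHom_assoc, hgi, IsMonHom.mul_hom]⟩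
  exact ⟨inferInstance, hi, hq⟩

/-- The homomorphism onto the image is surjective. -/
theorem surjective [LocallyOfFiniteType H.hom] [LocallyOfFiniteType G.hom] : Surjective g.left := by
  obtain ⟨_, hi, hg⟩ := exists_grpObj f i g hgi
  haveI := quasiCompact_of_factor f i g hgi
  haveI : LocallyOfFiniteType Z.hom := by rw [← Over.w i]; infer_instance
  haveI : IsLocallyNoetherian Z.left := LocallyOfFiniteType.isLocallyNoetherian Z.hom
  haveI : LocallyOfFiniteType (g.left ≫ Z.hom) := by rw [Over.w]; infer_instance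
  haveI : LocallyOfFiniteType g.left := locallyOfFiniteType_of_comp _ Z.hom
  haveI := VarDim.locallyOfFinitePresentation_of_locallyNoetherian g.left
  let U : Z.left.Opens := ⟨interior (Set.range g.left), isOpen_interior⟩
  have hU : Dense (U : Set Z.left) := dense_interior_range g.left
  refine ⟨fun x => ?_⟩
  have hne : (U : Set Z.left).Nonempty := by
    haveI : Nonempty Z.left := ⟨η[Z].left (IsLocalRing.closedPoint K)⟩
    exact hU.nonempty
  obtain ⟨q, h1, h2, rfl⟩ := AbRigid.exists_mul_eq U U hU hne x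
  exact AbRigid.mulStable_range g q (interior_subset h1) (interior_subset h2)

end Groth.Agent.GrpImage19
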